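import Mathlib
import Cfsg.Agent.Lib.Core.Coprime

set_option autoImplicit false
set_option linter.unusedSectionVars false
set_option linter.style.haveILetI false

/-!
A coset action on nine points for certain groups of order 162 (owner: helper18).
-/

namespace CfsgLib.SmallGroups.Order162

variable {G : Type*} [Group G] [Finite G]

theorem card_pow_of_sylow {p n k : ℕ} [hp : Fact p.Prime] (P : Sylow p G)
    (hG : Nat.card G = p ^ k * n) (hn : ¬ p ∣ n) : Nat.card (P : Subgroup G) = p ^ k := by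
  rw [P.card_eq_multiplicity, hG,
    Nat.factorization_mul (pow_ne_zero _ hp.out.ne_zero) (fun e => hn (by rw [e]; exact dvd_zero p)), Finsupp.add_apply, hp.out.factorization_pow,
    Finsupp.single_eq_same, Nat.factorization_eq_zero_of_not_dvd hn, add_zero]

/-- A subgroup with all `z`-translates covering `J` and avoiding `z` has index 3 in `J`. -/
theorem card_compl {J K : Subgroup G} {z : G} (hz : orderOf z = 3) (hJ : Nat.card J = 27)
    (hzJ : z ∈ J) (hKJ : K ≤ J) (hzK : z ∉ K) (hn : Subgroup.zpowers z ≤ Subgroup.normalizer (K : Set G))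
    (hcov : ∀ x ∈ J, ∃ i : ℤ, x * z ^ i ∈ K) : Nat.card K = 9 := by
  have : Fact (Nat.Prime 3) := ⟨Nat.prime_three⟩
  have hsup : Subgroup.zpowers z ⊔ K = J := by
    refine le_antisymm (sup_le (Subgroup.zpowers_le.2 hzJ) hKJ) fun x hx => ?_
    obtain ⟨i, hi⟩ := hcov x hx
    rw [show x = x * z ^ i * (z ^ i)⁻¹ by rw [mul_inv_cancel_right]]
    exact Subgroup.mul_mem _ (Subgroup.mem_sup_right hi)
      (Subgroup.mem_sup_left (inv_mem ⟨i, rfl⟩))
  have hinf : Subgroup.zpowers z ⊓ K = ⊥ := by
    have hd : Nat.card ↥(Subgroup.zpowers z ⊓ K) ∣ 3 :=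
      (Subgroup.card_dvd_of_le inf_le_left).trans (by rw [Nat.card_zpowers, hz])
    rcases (Nat.dvd_prime Nat.prime_three).1 hd with h | h
    · exact Subgroup.card_eq_one.1 h
    · exfalso
      refine hzK ?_
      have : Subgroup.zpowers z ⊓ K = Subgroup.zpowers z :=
        Subgroup.eq_of_le_of_card_ge inf_le_left (by rw [h, Nat.card_zpowers, hz])
      exact (this.ge (Subgroup.mem_zpowers z)).2
  have h := CfsgLib.Core.card_sup_mul_card_inf (Subgroup.zpowers z) K hn
  rw [hsup, hinf, hJ, Subgroup.card_bot, Nat.card_zpowers, hz] at h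
  omega

/-- The group acts faithfully on nine points, the central element moving all of them. -/
theorem exists_action (hG : Nat.card G = 162) (S : Sylow 3 G) (T : Sylow 2 G) (J : Subgroup G)
    [hJn : J.Normal] (hJcomm : IsMulCommutative J) (hJexp : ∀ a ∈ J, a ^ 3 = 1)
    (hJcard : Nat.card J = 27) (Z : Subgroup G)
    (hZ : Z = (S : Subgroup G) ⊓ Subgroup.centralizer ((S : Subgroup G) : Set G))
    (hZcard : Nat.card Z = 3) (hZT : Z ≤ Subgroup.centralizer ((T : Subgroup G) : Set G))
    (hST : (S : Subgroup G) ⊓ Subgroup.centralizer ((T : Subgroup G) : Set G) ≠ S) :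
    ∃ (φ : G →* Equiv.Perm (Fin 9)) (z : G), Function.Injective φ ∧ (∀ g, g * z = z * g) ∧
      φ z ^ 3 = 1 ∧ ∀ i, φ z i ≠ i := by
  classical
  have : Fact (Nat.Prime 3) := ⟨Nat.prime_three⟩
  have : Fact (Nat.Prime 2) := ⟨Nat.prime_two⟩
  have hScard : Nat.card (S : Subgroup G) = 81 :=
    card_pow_of_sylow (k := 4) (n := 2) S (by rw [hG]; norm_num) (by norm_num)
  have hTcard : Nat.card (T : Subgroup G) = 2 :=
    card_pow_of_sylow (k := 1) (n := 81) T (by rw [hG]; norm_num) (by norm_num)
  have hJp : IsPGroup 3 J := fun a => ⟨1, Subtype.ext (by simpa using hJexp a a.2)⟩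
  have hJS : J ≤ (S : Subgroup G) := by
    obtain ⟨S', hS'⟩ := hJp.exists_le_sylow
    obtain ⟨g, hg⟩ := MulAction.exists_smul_eq G S' S
    intro x hx
    have h1 : g⁻¹ * x * g ∈ (S' : Subgroup G) := hS' (by
      simpa using hJn.conj_mem x hx g⁻¹)
    rw [← hg, Sylow.coe_subgroup_smul]
    exact ⟨_, h1, by show g * (g⁻¹ * x * g) * g⁻¹ = x; group⟩
  -- a generator of `Z` inside `J`
  obtain ⟨z, hzJ, hz1, hzS⟩ : ∃ z ∈ J, z ≠ 1 ∧ z ∈ Subgroup.centralizer ((S : Subgroup G) : Set G) := by
    letI : MulAction (S : Subgroup G) J :=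
      MulAction.compHom J ((MulAut.conjNormal (H := J)).comp (S : Subgroup G).subtype)
    have h1 : (1 : J) ∈ MulAction.fixedPoints (S : Subgroup G) J := fun q =>
      map_one (MulAut.conjNormal (H := J) (q : G))
    obtain ⟨x, hx, hne⟩ := S.2.exists_fixed_point_of_prime_dvd_card_of_fixed_point J
      (by rw [hJcard]; norm_num) h1
    refine ⟨x, x.2, fun e => hne (Subtype.ext e).symm, Subgroup.mem_centralizer_iff.2 fun q hq => ?_⟩
    exact mul_inv_eq_iff_eq_mul.1 (congrArg Subtype.val (hx ⟨q, hq⟩))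
  have hzZ : z ∈ Z := hZ ▸ ⟨hJS hzJ, hzS⟩
  have hz3 : orderOf z = 3 := orderOf_eq_prime (hJexp z hzJ) hz1
  -- a generator of `T`
  obtain ⟨⟨t, htT⟩, ht1⟩ : ∃ t : (T : Subgroup G), t ≠ 1 := by
    have : Nontrivial (T : Subgroup G) := Finite.one_lt_card_iff_nontrivial.1 (by omega)
    exact exists_ne 1
  have hto : orderOf t = 2 := by
    have h1 : orderOf t ∣ 2 := hTcard ▸ Subgroup.orderOf_dvd_natCard _ htT
    rcases (Nat.dvd_prime Nat.prime_two).1 h1 with h | h
    · exact absurd (Subtype.ext (orderOf_eq_one_iff.1 h)) ht1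
    · exact h
  have hTz : (T : Subgroup G) = Subgroup.zpowers t :=
    (Subgroup.eq_of_le_of_card_ge (Subgroup.zpowers_le.2 htT) (by rw [Nat.card_zpowers, hto, hTcard])).symm
  have htt : t * t = 1 := by rw [← pow_two, ← hto, pow_orderOf_eq_one]
  have htz : t * z = z * t := Subgroup.mem_centralizer_iff.1 (hZT hzZ) t htT
  have hST' : (S : Subgroup G) ⊓ (T : Subgroup G) = ⊥ :=
    Subgroup.inf_eq_bot_of_coprime (by rw [hScard, hTcard]; norm_num)
  have hzc : ∀ g : G, g * z = z * g := by
    have htop : (S : Subgroup G) ⊔ (T : Subgroup G) = ⊤ := by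
      refine Subgroup.eq_top_of_le_card _ ?_
      have h1 := Subgroup.card_dvd_of_le (le_sup_left : (S : Subgroup G) ≤ (S : Subgroup G) ⊔ (T : Subgroup G))
      have h2 := Subgroup.card_dvd_of_le (le_sup_right : (T : Subgroup G) ≤ (S : Subgroup G) ⊔ (T : Subgroup G))
      rw [hScard] at h1
      rw [hTcard] at h2
      have h3 := Nat.Coprime.mul_dvd_of_dvd_of_dvd (by norm_num) h1 h2
      rw [hG]
      exact Nat.le_of_dvd Nat.card_pos h3
    have hle : (S : Subgroup G) ⊔ (T : Subgroup G) ≤ Subgroup.centralizer ({z} : Set G) := sup_le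
      (fun s hs => Subgroup.mem_centralizer_singleton_iff.2 (Subgroup.mem_centralizer_iff.1 hzS s hs))
      (fun s hs => Subgroup.mem_centralizer_singleton_iff.2
        (Subgroup.mem_centralizer_iff.1 (hZT hzZ) s hs))
    intro g
    exact Subgroup.mem_centralizer_singleton_iff.1 (hle (htop ▸ Subgroup.mem_top g))
  have hJc : ∀ a ∈ J, ∀ b ∈ J, a * b = b * a := fun a ha b hb =>
    congrArg Subtype.val (hJcomm.is_comm.comm (⟨a, ha⟩ : J) ⟨b, hb⟩)
  have hznorm : ∀ K : Subgroup G, Subgroup.zpowers z ≤ Subgroup.normalizer (K : Set G) := fun K => by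
    rw [Subgroup.zpowers_le, Subgroup.mem_normalizer_iff]
    intro y
    rw [← hzc y, mul_inv_cancel_right]
  -- a complement of `⟨z⟩` in `J`
  obtain ⟨P, ⟨hPJ, hzP⟩, hmax⟩ := Set.Finite.exists_maximal
    (Set.toFinite {H : Subgroup G | H ≤ J ∧ z ∉ H}) ⟨⊥, bot_le, fun h => hz1 (Subgroup.mem_bot.1 h)⟩
  have hPcov : ∀ x ∈ J, ∃ i : ℤ, x * z ^ i ∈ P := by
    intro x hx
    by_cases hxP : x ∈ P
    · exact ⟨0, by rwa [zpow_zero, mul_one]⟩
    have hxn : Subgroup.zpowers x ≤ Subgroup.normalizer (P : Set G) := by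
      rw [Subgroup.zpowers_le, Subgroup.mem_normalizer_iff]
      intro y
      constructor
      · intro hy
        rwa [hJc x hx y (hPJ hy), mul_inv_cancel_right]
      · intro hy
        have h1 : x⁻¹ * (x * y * x⁻¹) * x = y := by group
        rw [← h1, hJc _ (J.inv_mem hx) _ (hPJ hy), inv_mul_cancel_right]
        exact hy
    have hzin : z ∈ Subgroup.zpowers x ⊔ P := by
      by_contra hcon
      exact hxP (hmax ⟨sup_le (Subgroup.zpowers_le.2 hx) hPJ, hcon⟩ le_sup_right
        (Subgroup.mem_sup_left (Subgroup.mem_zpowers x)))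
    obtain ⟨w, hw, p, hp, hwp⟩ := (CfsgLib.Core.mem_sup_iff_mul hxn).1 hzin
    obtain ⟨i, rfl⟩ := Subgroup.mem_zpowers_iff.1 hw
    have hx3 : x ^ (3 : ℤ) = 1 := by rw [show (3 : ℤ) = ((3 : ℕ) : ℤ) from rfl, zpow_natCast, hJexp x hx]
    have hi : i % 3 ≠ 0 := by
      intro h
      refine hzP ?_
      rw [hwp, ← Int.emod_add_mul_ediv i 3, h, zero_add, zpow_mul, hx3, one_zpow, one_mul]
      exact hp
    obtain ⟨j, hj⟩ : ∃ j : ℤ, x = (x ^ i) ^ j := by
      rcases (show i % 3 = 1 ∨ i % 3 = 2 by omega) with h | h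
      · refine ⟨1, ?_⟩
        rw [zpow_one, ← Int.emod_add_mul_ediv i 3, h, zpow_add, zpow_one, zpow_mul, hx3, one_zpow, mul_one]
      · refine ⟨2, ?_⟩
        rw [← Int.emod_add_mul_ediv i 3, h, zpow_add, zpow_mul x 3, hx3, one_zpow, mul_one, ← zpow_mul,
          show (2 : ℤ) * 2 = 1 + 3 by norm_num, zpow_add, zpow_one, hx3, mul_one]
    refine ⟨-j, ?_⟩
    have hxi : x ^ i = z * p⁻¹ := by rw [hwp, mul_inv_cancel_right]
    rw [hj, hxi, (show Commute z p⁻¹ from (hzc p⁻¹).symm).mul_zpow, mul_assoc,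
      ((show Commute p⁻¹ z from hzc p⁻¹).zpow_zpow j (-j)).eq, ← mul_assoc, ← zpow_add,
      add_neg_cancel, zpow_zero, one_mul]
    exact P.zpow_mem (P.inv_mem hp) j
  -- the invariant complement
  let K : Subgroup G :=
    { carrier := {x | x ∈ J ∧ x * (t * x * t⁻¹) ∈ P}
      mul_mem' := by
        rintro a b ⟨ha, ha'⟩ ⟨hb, hb'⟩
        refine ⟨J.mul_mem ha hb, ?_⟩
        have h1 : b * (t * a * t⁻¹) = (t * a * t⁻¹) * b := hJc b hb _ (hJn.conj_mem a ha t)
        have : a * b * (t * (a * b) * t⁻¹) = (a * (t * a * t⁻¹)) * (b * (t * b * t⁻¹)) := by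
          calc a * b * (t * (a * b) * t⁻¹) = a * (b * (t * a * t⁻¹)) * (t * b * t⁻¹) := by group
            _ = _ := by rw [h1]; group
        rw [this]
        exact P.mul_mem ha' hb'
      one_mem' := ⟨J.one_mem, by simp⟩
      inv_mem' := by
        rintro a ⟨ha, ha'⟩
        refine ⟨J.inv_mem ha, ?_⟩
        have : a⁻¹ * (t * a⁻¹ * t⁻¹) = (a * (t * a * t⁻¹))⁻¹ := by
          rw [hJc a⁻¹ (J.inv_mem ha) _ (hJn.conj_mem _ (J.inv_mem ha) t)]
          group
        rw [this]
        exact P.inv_mem ha' }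
  have hzt : ∀ i : ℤ, t * z ^ i * t⁻¹ = z ^ i := fun i => by
    rw [((show Commute t z from htz).zpow_right i).eq, mul_inv_cancel_right]
  have hzK : z ∉ K := fun h => hzP (by
    have h1 : z * (t * z * t⁻¹) ∈ P := h.2
    rw [htz, mul_inv_cancel_right] at h1
    have : z = (z * z) * (z * z) := by
      calc z = z ^ 3 * z := by rw [hJexp z hzJ, one_mul]
        _ = _ := by simp only [pow_succ, pow_zero, one_mul, mul_assoc]
    rw [this]
    exact P.mul_mem h1 h1)
  have hKcov : ∀ x ∈ J, ∃ i : ℤ, x * z ^ i ∈ K := by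
    intro x hx
    obtain ⟨i, hi⟩ := hPcov _ (J.mul_mem hx (hJn.conj_mem x hx t))
    refine ⟨2 * i, J.mul_mem hx (J.zpow_mem hzJ _), ?_⟩
    have h3 : z ^ (3 : ℤ) = 1 := by rw [show (3 : ℤ) = ((3 : ℕ) : ℤ) from rfl, zpow_natCast, hJexp z hzJ]
    have hcom : z ^ (2 * i) * (t * x * t⁻¹) = t * x * t⁻¹ * z ^ (2 * i) :=
      hJc _ (J.zpow_mem hzJ _) _ (hJn.conj_mem x hx t)
    have : x * z ^ (2 * i) * (t * (x * z ^ (2 * i)) * t⁻¹) = x * (t * x * t⁻¹) * z ^ i := by
      calc x * z ^ (2 * i) * (t * (x * z ^ (2 * i)) * t⁻¹)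
          = x * (z ^ (2 * i) * (t * x * t⁻¹)) * (t * z ^ (2 * i) * t⁻¹) := by group
        _ = x * (t * x * t⁻¹) * (z ^ (2 * i) * z ^ (2 * i)) := by rw [hcom, hzt]; group
        _ = _ := by
          rw [← zpow_add, show (2 * i + 2 * i : ℤ) = i + 3 * i by ring, zpow_add, zpow_mul, h3,
            one_zpow, mul_one]
    rw [this]
    exact hi
  have hKc : Nat.card K = 9 :=
    card_compl hz3 hJcard hzJ (fun x hx => hx.1) hzK (hznorm K) hKcov
  have hTK : (T : Subgroup G) ≤ Subgroup.normalizer (K : Set G) := by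
    have hstep : ∀ y ∈ K, t * y * t⁻¹ ∈ K := fun y hy => by
      refine ⟨hJn.conj_mem y hy.1 t, ?_⟩
      have : t * (t * y * t⁻¹) * t⁻¹ = y := by
        rw [show t * (t * y * t⁻¹) * t⁻¹ = (t * t) * y * (t * t)⁻¹ by group, htt]; group
      rw [this, hJc _ (hJn.conj_mem y hy.1 t) y hy.1]
      exact hy.2
    rw [hTz, Subgroup.zpowers_le, Subgroup.mem_normalizer_iff]
    refine fun y => ⟨hstep y, fun hy => ?_⟩
    have := hstep _ hy
    rwa [show t * (t * y * t⁻¹) * t⁻¹ = (t * t) * y * (t * t)⁻¹ by group, htt, one_mul, inv_one,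
      mul_one] at this
  set H := (T : Subgroup G) ⊔ K with hH
  have hKS : K ≤ (S : Subgroup G) := fun x hx => hJS hx.1
  have hHS : ∀ x ∈ H, x ∈ (S : Subgroup G) → x ∈ K := by
    intro x hx hxS
    obtain ⟨τ, hτ, k, hk, rfl⟩ := (CfsgLib.Core.mem_sup_iff_mul hTK).1 hx
    have : τ ∈ (S : Subgroup G) ⊓ (T : Subgroup G) := ⟨((S : Subgroup G).mul_mem_cancel_right (hKS hk)).1 hxS, hτ⟩
    rw [hST', Subgroup.mem_bot] at this
    rwa [this, one_mul]
  have hHc : Nat.card H = 18 := by
    have h := CfsgLib.Core.card_sup_mul_card_inf (T : Subgroup G) K hTK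
    rw [Subgroup.inf_eq_bot_of_coprime (show (Nat.card (T : Subgroup G)).Coprime (Nat.card K) by
      rw [hTcard, hKc]; norm_num), Subgroup.card_bot, hTcard, hKc, mul_one] at h
    exact h
  have hHi : H.index = 9 := by
    have := H.index_mul_card
    rw [hG, hHc] at this
    omega
  -- trivial core
  have hcore : H.normalCore = ⊥ := by
    set N := H.normalCore with hN
    have hNS : N ⊓ (S : Subgroup G) = ⊥ := by
      by_contra hne
      let A : Subgroup (S : Subgroup G) := N.subgroupOf S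
      letI : MulAction (S : Subgroup G) ↥N :=
        MulAction.compHom N ((MulAut.conjNormal (H := N)).comp (S : Subgroup G).subtype)
      have h1 : (1 : N) ∈ MulAction.fixedPoints (S : Subgroup G) N := fun q =>
        map_one (MulAut.conjNormal (H := N) (q : G))
      have h3 : 3 ∣ Nat.card N := by
        have hp : IsPGroup 3 ↥(N ⊓ (S : Subgroup G)) := S.2.to_le inf_le_right
        obtain ⟨j, hj⟩ := IsPGroup.iff_card.1 hp
        have hj0 : j ≠ 0 := fun e => hne (Subgroup.card_eq_one.1 (by rw [hj, e, pow_zero]))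
        exact (dvd_pow_self 3 hj0).trans (hj ▸ Subgroup.card_dvd_of_le inf_le_left)
      obtain ⟨x, hx, hxne⟩ := S.2.exists_fixed_point_of_prime_dvd_card_of_fixed_point N h3 h1
      have hxc : (x : G) ∈ Subgroup.centralizer ((S : Subgroup G) : Set G) :=
        Subgroup.mem_centralizer_iff.2 fun q hq =>
          mul_inv_eq_iff_eq_mul.1 (congrArg Subtype.val (hx ⟨q, hq⟩))
      -- `x` is a 3-element of `H`, hence in `S`
      have hxH : (x : G) ∈ H := Subgroup.normalCore_le H x.2
      obtain ⟨τ, hτ, k, hk, hxe⟩ := (CfsgLib.Core.mem_sup_iff_mul hTK).1 hxH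
      have hτ1 : τ = 1 := by
        by_contra hτ1
        have hτt : τ = t := by
          rw [hTz] at hτ
          obtain ⟨i, rfl⟩ := Subgroup.mem_zpowers_iff.1 hτ
          rcases Int.emod_two_eq_zero_or_one i with h | h
          · exact absurd (by rw [← Int.emod_add_mul_ediv i 2, h, zero_add, zpow_mul, show t ^ (2 : ℤ) = 1 by
              rw [zpow_two, htt], one_zpow]) hτ1
          · rw [← Int.emod_add_mul_ediv i 2, h, zpow_add, zpow_one, zpow_mul, show t ^ (2 : ℤ) = 1 by
              rw [zpow_two, htt], one_zpow, mul_one]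
        apply hST
        refine le_antisymm inf_le_left fun s hs => ⟨hs, ?_⟩
        -- `t` lies in the centralizer of `S` times `J`
        have h1 : s * (x : G) = x * s := Subgroup.mem_centralizer_iff.1 hxc s hs
        by_cases hsJ : s ∈ J
        · refine Subgroup.mem_centralizer_iff.2 ?_
          rw [hTz]
          intro w hw
          obtain ⟨i, rfl⟩ := Subgroup.mem_zpowers_iff.1 hw
          have h2 : Commute s t := by
            have h3 : s * (τ * k) = τ * k * s := hxe ▸ h1
            rw [hτt] at h3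
            have h4 : t * k * s = t * s * k := by rw [mul_assoc, hJc k hk.1 s hsJ, ← mul_assoc]
            rw [h4, ← mul_assoc] at h3
            exact mul_right_cancel h3
          exact ((h2.zpow_right i).symm).eq
        · exfalso
          have hxJ : ∀ a ∈ J, a * t = t * a := fun a ha => by
            have h3 : a * (τ * k) = τ * k * a := hxe ▸ Subgroup.mem_centralizer_iff.1 hxc a (hJS ha)
            rw [hτt] at h3
            have h4 : t * k * a = t * a * k := by rw [mul_assoc, hJc k hk.1 a ha, ← mul_assoc]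
            rw [h4, ← mul_assoc] at h3
            exact mul_right_cancel h3
          have ht3 : ((x : G)) ^ 2 = k ^ 2 := by
            rw [hxe, hτt, (show Commute t k from (hxJ k hk.1).symm).mul_pow, pow_two t, htt, one_mul]
          have hk1 : s * k = k * s := by
            have h5 : Commute s ((x : G) ^ 2) := (show Commute s (x : G) from h1).pow_right 2
            rw [ht3] at h5
            have h6 : k = (k ^ 2) ^ 2 := by
              rw [← pow_mul, show 2 * 2 = 3 + 1 from rfl, pow_succ, hJexp k hk.1, one_mul]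
            rw [h6]
            exact (h5.pow_right 2).eq
          apply hST
          refine le_antisymm inf_le_left fun s' hs' => ⟨hs', ?_⟩
          have hk' : s' * k = k * s' := by
            have h5 : Commute s' ((x : G) ^ 2) :=
              (show Commute s' (x : G) from Subgroup.mem_centralizer_iff.1 hxc s' hs').pow_right 2
            rw [ht3] at h5
            have h6 : k = (k ^ 2) ^ 2 := by
              rw [← pow_mul, show 2 * 2 = 3 + 1 from rfl, pow_succ, hJexp k hk.1, one_mul]
            rw [h6]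
            exact (h5.pow_right 2).eq
          refine Subgroup.mem_centralizer_iff.2 ?_
          rw [hTz]
          intro w hw
          obtain ⟨i, rfl⟩ := Subgroup.mem_zpowers_iff.1 hw
          have h2 : Commute s' t := by
            have h3 : s' * (τ * k) = τ * k * s' := hxe ▸ Subgroup.mem_centralizer_iff.1 hxc s' hs'
            rw [hτt] at h3
            have h4 : t * k * s' = t * s' * k := by rw [mul_assoc, ← hk', ← mul_assoc]
            rw [h4, ← mul_assoc] at h3
            exact mul_right_cancel h3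
          exact ((h2.zpow_right i).symm).eq
      have hxS : (x : G) ∈ (S : Subgroup G) := by rw [hxe, hτ1, one_mul]; exact hKS hk
      have hxK : (x : G) ∈ K := hHS _ hxH hxS
      have hxZ : (x : G) ∈ Z := hZ ▸ ⟨hxS, hxc⟩
      have : Subgroup.zpowers (x : G) = Subgroup.zpowers z := by
        have hx3 : orderOf (x : G) = 3 :=
          orderOf_eq_prime (hJexp _ hxK.1) fun e => hxne (Subtype.ext e).symm
        rw [Subgroup.eq_of_le_of_card_ge (Subgroup.zpowers_le.2 hxZ) (by rw [hZcard, Nat.card_zpowers, hx3]),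
          Subgroup.eq_of_le_of_card_ge (Subgroup.zpowers_le.2 hzZ) (by rw [hZcard, Nat.card_zpowers, hz3])]
      exact hzK (Subgroup.zpowers_le.2 hxK (this ▸ Subgroup.mem_zpowers z))
    rw [Subgroup.eq_bot_iff_forall]
    intro n hn
    by_contra hn1
    -- `n` commutes with `S`
    have hcs : ∀ s ∈ (S : Subgroup G), n * s = s * n := by
      intro s hs
      have hSn : (S : Subgroup G).Normal := Subgroup.normal_of_index_eq_two (by
        have := (S : Subgroup G).index_mul_card
        rw [hG, hScard] at this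
        omega)
      have h1 : n * s * n⁻¹ * s⁻¹ ∈ N ⊓ (S : Subgroup G) := by
        refine ⟨?_, (S : Subgroup G).mul_mem (hSn.conj_mem s hs n) ((S : Subgroup G).inv_mem hs)⟩
        rw [mul_assoc, mul_assoc]
        refine N.mul_mem hn ?_
        rw [← mul_assoc]
        exact (Subgroup.normalCore_normal H).conj_mem _ (N.inv_mem hn) s
      rw [hNS, Subgroup.mem_bot, mul_inv_eq_one, mul_inv_eq_iff_eq_mul] at h1
      exact h1
    obtain ⟨τ, hτ, k, hk, rfl⟩ := (CfsgLib.Core.mem_sup_iff_mul hTK).1 (Subgroup.normalCore_le H hn)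
    rw [hTz] at hτ
    obtain ⟨i, rfl⟩ := Subgroup.mem_zpowers_iff.1 hτ
    have ht2 : t ^ (2 : ℤ) = 1 := by rw [zpow_two, htt]
    rcases Int.emod_two_eq_zero_or_one i with h | h
    · have h0 : t ^ i = 1 := by rw [← Int.emod_add_mul_ediv i 2, h, zero_add, zpow_mul, ht2, one_zpow]
      rw [h0, one_mul] at hn hn1
      exact hn1 (Subgroup.mem_bot.1 (hNS ▸ ⟨hn, hKS hk⟩))
    · have h0 : t ^ i = t := by rw [← Int.emod_add_mul_ediv i 2, h, zpow_add, zpow_one, zpow_mul, ht2, one_zpow, mul_one]
      rw [h0] at hn hcs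
      have hJt : ∀ a ∈ J, a * t = t * a := fun a ha => by
        have h3 := hcs a (hJS ha)
        have h4 : t * k * a = t * a * k := by rw [mul_assoc, hJc k hk.1 a ha, ← mul_assoc]
        rw [h4, ← mul_assoc] at h3
        exact (mul_right_cancel h3).symm
      have hk1 : k = 1 := by
        have h5 : (t * k) ^ 2 = k ^ 2 := by
          rw [(show Commute t k from (hJt k hk.1).symm).mul_pow, pow_two t, htt, one_mul]
        have h7 : k ^ 2 ∈ N ⊓ (S : Subgroup G) := ⟨h5 ▸ N.pow_mem hn 2, (S : Subgroup G).pow_mem (hKS hk) 2⟩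
        rw [hNS, Subgroup.mem_bot] at h7
        calc k = k ^ 3 := by rw [pow_succ, h7, one_mul]
          _ = 1 := hJexp k hk.1
      subst hk1
      rw [mul_one] at hcs
      apply hST
      refine le_antisymm inf_le_left fun s hs => ⟨hs, ?_⟩
      refine Subgroup.mem_centralizer_iff.2 ?_
      rw [hTz]
      intro w hw
      obtain ⟨j, rfl⟩ := Subgroup.mem_zpowers_iff.1 hw
      exact ((show Commute t s from hcs s hs).zpow_left j).eq
  -- the action
  have e : (G ⧸ H) ≃ Fin 9 := Finite.equivFinOfCardEq (by rw [← Subgroup.index_eq_card, hHi])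
  let φ : G →* Equiv.Perm (Fin 9) :=
    (Equiv.permCongrHom e).toMonoidHom.comp (MulAction.toPermHom G (G ⧸ H))
  have hinj : Function.Injective φ := by
    refine (Equiv.permCongrHom e).injective.comp ?_
    rw [← MonoidHom.ker_eq_bot_iff, ← Subgroup.normalCore_eq_ker, hcore]
  refine ⟨φ, z, hinj, hzc, ?_, fun i hi => ?_⟩
  · rw [← map_pow, hJexp z hzJ, map_one]
  · obtain ⟨g, hg⟩ := QuotientGroup.mk_surjective (e.symm i)
    have h1 : e (z • e.symm i) = i := hi
    have h2 : z • e.symm i = e.symm i := e.injective (h1.trans (e.apply_symm_apply i).symm)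
    rw [← hg] at h2
    have h3 : (z * g)⁻¹ * g ∈ H := QuotientGroup.eq.1 h2
    rw [← hzc g, mul_inv_rev, mul_assoc, inv_mul_cancel, mul_one] at h3
    exact hzK (hHS z (by simpa using H.inv_mem h3) (hJS hzJ))

end CfsgLib.SmallGroups.Order162
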